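import Mathlib.Topology.Constructible
import Mathlib.Topology.NoetherianSpace

/-!
# Quasi-homeomorphisms, very dense subsets, quasi-constructible sets
-/

set_option autoImplicit false

universe u

open Set TopologicalSpace Topology

namespace QuasiHomLib

variable {X Y : Type u} [TopologicalSpace X] [TopologicalSpace Y]

/-- A finite union of locally closed subsets. -/
abbrev QC (Z : Set X) : Prop := ∃ T : Set (Set X), T.Finite ∧ (∀ t ∈ T, IsLocallyClosed t) ∧ Z = ⋃₀ T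

/-- Locally a finite union of locally closed subsets. -/
abbrev LQC (Z : Set X) : Prop :=
  ∀ x : X, ∃ U : Set X, IsOpen U ∧ x ∈ U ∧ ∃ T : Set (Set X), T.Finite ∧ (∀ t ∈ T, IsLocallyClosed t) ∧ U ∩ Z = ⋃₀ T

theorem qc_of_isLocallyClosed {Z : Set X} (h : IsLocallyClosed Z) : QC Z :=
  ⟨{Z}, finite_singleton Z, fun t ht => ht ▸ h, (sUnion_singleton Z).symm⟩

theorem qc_of_isOpen {Z : Set X} (h : IsOpen Z) : QC Z := qc_of_isLocallyClosed h.isLocallyClosed

theorem qc_union {A B : Set X} (hA : QC A) (hB : QC B) : QC (A ∪ B) := by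
  obtain ⟨T, hT, hT', rfl⟩ := hA
  obtain ⟨T', hT₂, hT₂', rfl⟩ := hB
  exact ⟨T ∪ T', hT.union hT₂, fun t ht => ht.elim (hT' t) (hT₂' t), (sUnion_union T T').symm⟩

theorem qc_inter {A B : Set X} (hA : QC A) (hB : QC B) : QC (A ∩ B) := by
  obtain ⟨T, hT, hT', rfl⟩ := hA
  obtain ⟨T', hT₂, hT₂', rfl⟩ := hB
  refine ⟨Set.image2 (· ∩ ·) T T', hT.image2 _ hT₂, ?_, ?_⟩
  · rintro _ ⟨a, ha, b, hb, rfl⟩
    exact (hT' a ha).inter (hT₂' b hb)
  · ext x
    constructor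
    · rintro ⟨⟨a, ha, hxa⟩, b, hb, hxb⟩
      exact ⟨_, ⟨a, ha, b, hb, rfl⟩, hxa, hxb⟩
    · rintro ⟨_, ⟨a, ha, b, hb, rfl⟩, hxa, hxb⟩
      exact ⟨⟨a, ha, hxa⟩, b, hb, hxb⟩

theorem qc_compl {A : Set X} (hA : QC A) : QC Aᶜ := by
  obtain ⟨T, hT, hT', rfl⟩ := hA
  induction T, hT using Set.Finite.induction_on with
  | empty => simpa using qc_of_isOpen (isOpen_univ (X := X))
  | @insert t T _ _ ih =>
    rw [sUnion_insert, compl_union]
    refine qc_inter ?_ (ih fun s hs => hT' s (mem_insert_of_mem _ hs))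
    obtain ⟨U, C, hU, hC, rfl⟩ := hT' t (mem_insert _ _)
    rw [compl_inter]
    exact qc_union (qc_of_isLocallyClosed hU.isClosed_compl.isLocallyClosed) (qc_of_isOpen hC.isOpen_compl)

theorem qc_sdiff {A B : Set X} (hA : QC A) (hB : QC B) : QC (A \ B) := qc_inter hA (qc_compl hB)

theorem lqc_of_qc {Z : Set X} (h : QC Z) : LQC Z := fun x => ⟨univ, isOpen_univ, mem_univ x, by simpa using h⟩

theorem lqc_inter {A B : Set X} (hA : LQC A) (hB : LQC B) : LQC (A ∩ B) := fun x => by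
  obtain ⟨U, hU, hxU, hUA⟩ := hA x
  obtain ⟨V, hV, hxV, hVB⟩ := hB x
  refine ⟨U ∩ V, hU.inter hV, ⟨hxU, hxV⟩, ?_⟩
  rw [inter_inter_inter_comm]
  exact qc_inter hUA hVB

theorem lqc_sdiff {A B : Set X} (hA : LQC A) (hB : LQC B) : LQC (A \ B) := fun x => by
  obtain ⟨U, hU, hxU, hUA⟩ := hA x
  obtain ⟨V, hV, hxV, hVB⟩ := hB x
  refine ⟨U ∩ V, hU.inter hV, ⟨hxU, hxV⟩, ?_⟩
  have h1 : (U ∩ V) ∩ (A \ B) = ((U ∩ A) ∩ V) \ (V ∩ B) := by
    ext z; simp only [mem_inter_iff, Set.mem_sdiff]; tauto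
  show QC _
  rw [h1]
  exact qc_sdiff (qc_inter hUA (qc_of_isOpen hV)) hVB

theorem qc_preimage {f : X → Y} (hf : Continuous f) {Z : Set Y} (h : QC Z) : QC (f ⁻¹' Z) := by
  obtain ⟨T, hT, hT', rfl⟩ := h
  refine ⟨preimage f '' T, hT.image _, ?_, by rw [preimage_sUnion, sUnion_image]⟩
  rintro _ ⟨t, ht, rfl⟩
  exact (hT' t ht).preimage hf

theorem qc_image_val {V : Set X} (hV : IsOpen V) {Z : Set V} (h : QC Z) : QC (Subtype.val '' Z) := by
  obtain ⟨T, hT, hT', rfl⟩ := h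
  refine ⟨image Subtype.val '' T, hT.image _, ?_, by rw [image_sUnion]⟩
  rintro _ ⟨t, ht, rfl⟩
  exact (hT' t ht).image hV.isOpenEmbedding_subtypeVal.isInducing
    (by rw [Subtype.range_val]; exact hV.isLocallyClosed)

theorem lqc_iff_subspace {Z : Set X} : LQC Z ↔
    ∀ x : X, ∃ V : Set X, IsOpen V ∧ x ∈ V ∧ QC (Subtype.val ⁻¹' Z : Set V) := by
  refine forall_congr' fun x => exists_congr fun V => and_congr_right fun hV => and_congr_right fun _ => ?_
  constructor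
  · intro h
    have h1 := qc_preimage (continuous_subtype_val (p := fun z => z ∈ V)) h
    rw [preimage_inter, Subtype.coe_preimage_self, univ_inter] at h1
    exact h1
  · intro h
    have h1 := qc_image_val hV h
    rw [Subtype.image_preimage_coe] at h1
    exact h1

theorem qh_preimage_lqc {f : X → Y} (hf : Continuous f) {Z : Set Y} (hZ : LQC Z) : LQC (f ⁻¹' Z) := fun x => by
  obtain ⟨U, hU, hxU, hUZ⟩ := hZ (f x)
  refine ⟨f ⁻¹' U, hU.preimage hf, hxU, ?_⟩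
  rw [← preimage_inter]
  exact qc_preimage hf hUZ

/-- A subset meeting every nonempty locally closed subset. -/
abbrev VeryDense (X₀ : Set X) : Prop := ∀ Z : Set X, IsLocallyClosed Z → Z.Nonempty → (Z ∩ X₀).Nonempty

theorem VeryDense.lqc {X₀ : Set X} (h : VeryDense X₀) {Z : Set X} (hZ : LQC Z) (hne : Z.Nonempty) :
    (Z ∩ X₀).Nonempty := by
  obtain ⟨x, hx⟩ := hne
  obtain ⟨U, hU, hxU, T, -, hT, he⟩ := hZ x
  obtain ⟨t, ht, hxt⟩ := he.le ⟨hxU, hx⟩
  obtain ⟨z, hzt, hz₀⟩ := h t (hT t ht) ⟨x, hxt⟩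
  exact ⟨z, (he.ge ⟨t, ht, hzt⟩).2, hz₀⟩

theorem VeryDense.eq_of_inter_eq {X₀ : Set X} (h : VeryDense X₀) {Z Z' : Set X} (hZ : LQC Z) (hZ' : LQC Z')
    (e : Z ∩ X₀ = Z' ∩ X₀) : Z = Z' := by
  refine Subset.antisymm (fun z hz => ?_) fun z hz => ?_ <;> by_contra hn
  · obtain ⟨w, ⟨hw, hw'⟩, hw₀⟩ := h.lqc (lqc_sdiff hZ hZ') ⟨z, hz, hn⟩
    exact hw' (e.le ⟨hw, hw₀⟩).1
  · obtain ⟨w, ⟨hw, hw'⟩, hw₀⟩ := h.lqc (lqc_sdiff hZ' hZ) ⟨z, hz, hn⟩
    exact hw' (e.ge ⟨hw, hw₀⟩).1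

/-- A continuous map inducing the topology, with very dense image. -/
structure QH (f : X → Y) : Prop where
  cont : Continuous f
  inducing : IsInducing f
  dense : VeryDense (range f)

theorem qh_of_sets {f : X → Y} (hf : Continuous f)
    (hi : ∀ U₁ U₂ : Set Y, IsOpen U₁ → IsOpen U₂ → f ⁻¹' U₁ = f ⁻¹' U₂ → U₁ = U₂)
    (hs : ∀ V : Set X, IsOpen V → ∃ U : Set Y, IsOpen U ∧ f ⁻¹' U = V) : QH f := by
  refine ⟨hf, ⟨TopologicalSpace.ext_iff.2 fun s => ?_⟩, fun Z hZ hne => ?_⟩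
  · rw [isOpen_induced_iff]
    exact ⟨fun h => hs s h, fun ⟨t, ht, hts⟩ => hts ▸ ht.preimage hf⟩
  · obtain ⟨U, C, hU, hC, rfl⟩ := hZ
    by_contra hn
    have h1 : U \ C = U := hi _ _ (hU.inter hC.isOpen_compl) hU (Subset.antisymm (fun x hx => hx.1)
      fun x hx => ⟨hx, fun hxC => hn ⟨f x, ⟨hx, hxC⟩, mem_range_self x⟩⟩)
    obtain ⟨y, hyU, hyC⟩ := hne
    exact (h1.ge hyU).2 hyC

theorem qh_of_bijective {f : X → Y} (hf : Continuous f)
    (hq : Function.Bijective (fun U : Opens Y => (⟨f ⁻¹' (U : Set Y), U.isOpen.preimage hf⟩ : Opens X))) : QH f :=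
  qh_of_sets hf
    (fun U₁ U₂ h₁ h₂ e => congrArg SetLike.coe (@hq.1 ⟨U₁, h₁⟩ ⟨U₂, h₂⟩ (Opens.ext e)))
    fun V hV => by
      obtain ⟨U, hU⟩ := hq.2 ⟨V, hV⟩
      exact ⟨U, U.2, congrArg SetLike.coe hU⟩

theorem qh_subtypeVal {X₀ : Set X} (h : VeryDense X₀) : QH (Subtype.val : X₀ → X) :=
  ⟨continuous_subtype_val, IsInducing.subtypeVal, by rwa [Subtype.range_val]⟩

variable {f : X → Y} (H : QH f)

include H

theorem QH.eq_of_preimage {Z Z' : Set Y} (hZ : LQC Z) (hZ' : LQC Z') (e : f ⁻¹' Z = f ⁻¹' Z') : Z = Z' :=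
  H.dense.eq_of_inter_eq hZ hZ' (by rw [← image_preimage_eq_inter_range, ← image_preimage_eq_inter_range, e])

theorem QH.subset_of_preimage {Z Z' : Set Y} (hZ : LQC Z) (hZ' : LQC Z') (e : f ⁻¹' Z ⊆ f ⁻¹' Z') : Z ⊆ Z' :=
  inter_eq_left.1 (H.eq_of_preimage (lqc_inter hZ hZ') hZ (by rw [preimage_inter, inter_eq_left.2 e]))

theorem QH.eq_univ {U : Set Y} (hU : IsOpen U) (e : f ⁻¹' U = univ) : U = univ :=
  H.eq_of_preimage (lqc_of_qc (qc_of_isOpen hU)) (lqc_of_qc (qc_of_isOpen isOpen_univ)) (by rw [e, preimage_univ])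

theorem QH.exists_open {V : Set X} (hV : IsOpen V) : ∃ U : Set Y, IsOpen U ∧ f ⁻¹' U = V :=
  H.inducing.isOpen_iff.1 hV

theorem QH.exists_locallyClosed {W : Set X} (hW : IsLocallyClosed W) : ∃ Z, IsLocallyClosed Z ∧ f ⁻¹' Z = W := by
  obtain ⟨U, C, hU, hC, rfl⟩ := hW
  obtain ⟨U', hU', rfl⟩ := H.exists_open hU
  obtain ⟨C', hC', e⟩ := H.exists_open hC.isOpen_compl
  exact ⟨U' ∩ C'ᶜ, hU'.isLocallyClosed.inter hC'.isClosed_compl.isLocallyClosed, by
    rw [preimage_inter, preimage_compl, e, compl_compl]⟩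

theorem QH.exists_qc {W : Set X} (hW : QC W) : ∃ Z, QC Z ∧ f ⁻¹' Z = W := by
  obtain ⟨T, hT, hT', rfl⟩ := hW
  induction T, hT using Set.Finite.induction_on with
  | empty => exact ⟨∅, qc_of_isOpen isOpen_empty, by simp⟩
  | @insert t T _ _ ih =>
    obtain ⟨Z, hZ, hZt⟩ := H.exists_locallyClosed (hT' t (mem_insert _ _))
    obtain ⟨Z', hZ', hZT⟩ := ih fun s hs => hT' s (mem_insert_of_mem _ hs)
    exact ⟨Z ∪ Z', qc_union (qc_of_isLocallyClosed hZ) hZ', by rw [preimage_union, hZt, hZT, sUnion_insert]⟩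

theorem QH.exists_lqc {W : Set X} (hW : LQC W) : ∃ Z, LQC Z ∧ f ⁻¹' Z = W := by
  have h : ∀ x : X, ∃ (U T : Set Y), IsOpen U ∧ f x ∈ U ∧ QC T ∧ T ⊆ U ∧ f ⁻¹' T = f ⁻¹' U ∩ W := fun x => by
    obtain ⟨V, hV, hxV, hVW⟩ := hW x
    obtain ⟨U, hU, rfl⟩ := H.exists_open hV
    obtain ⟨T, hT, hTe⟩ := H.exists_qc hVW
    refine ⟨U, T ∩ U, hU, hxV, qc_inter hT (qc_of_isOpen hU), inter_subset_right, ?_⟩
    rw [preimage_inter, hTe, inter_comm (f ⁻¹' U) W, inter_assoc, inter_self]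
  choose U T hU hxU hT hTU hTe using h
  have hcov : ⋃ x, U x = univ :=
    H.eq_univ (isOpen_iUnion hU) (eq_univ_of_forall fun x => mem_iUnion.2 ⟨x, hxU x⟩)
  have hcomp : ∀ x y, T x ∩ U y = T y ∩ U x := fun x y => by
    refine H.eq_of_preimage (lqc_of_qc (qc_inter (hT x) (qc_of_isOpen (hU y))))
      (lqc_of_qc (qc_inter (hT y) (qc_of_isOpen (hU x)))) ?_
    rw [preimage_inter, preimage_inter, hTe, hTe]
    ext z
    simp only [mem_inter_iff]
    tauto
  refine ⟨⋃ x, T x, fun y => ?_, ?_⟩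
  · obtain ⟨x, hx⟩ := mem_iUnion.1 (hcov.ge (mem_univ y))
    refine ⟨U x, hU x, hx, ?_⟩
    have h1 : U x ∩ ⋃ z, T z = T x := by
      refine Subset.antisymm ?_ fun z hz => ⟨hTU x hz, mem_iUnion.2 ⟨x, hz⟩⟩
      rintro z ⟨hz, hz'⟩
      obtain ⟨w, hw⟩ := mem_iUnion.1 hz'
      exact ((hcomp w x).le ⟨hw, hz⟩).1
    show QC _
    rw [h1]
    exact hT x
  · ext x
    simp only [mem_preimage, mem_iUnion]
    refine ⟨fun ⟨z, hz⟩ => ((hTe z).le hz).2, fun hx => ⟨x, (hTe x).ge ⟨hxU x, hx⟩⟩⟩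

theorem QH.restrictPreimage {Y' : Set Y} (hY' : LQC Y') : QH (Y'.restrictPreimage f) := by
  refine ⟨H.cont.restrictPreimage, H.inducing.restrictPreimage _, fun Z hZ hne => ?_⟩
  obtain ⟨U, C, hU, hC, rfl⟩ := hZ
  obtain ⟨U', hU', rfl⟩ := isOpen_induced_iff.1 hU
  obtain ⟨C', hC', rfl⟩ := isClosed_induced_iff.1 hC
  obtain ⟨y, hy⟩ := hne
  obtain ⟨w, ⟨hw, hw'⟩, x, rfl⟩ := H.dense.lqc
    (lqc_inter (lqc_of_qc (qc_of_isLocallyClosed (hU'.isLocallyClosed.inter hC'.isLocallyClosed))) hY')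
    ⟨y.1, hy, y.2⟩
  exact ⟨⟨f x, hw'⟩, hw, ⟨x, hw'⟩, rfl⟩

theorem QH.isCompact_preimage_iff {U : Set Y} (hU : IsOpen U) : IsCompact (f ⁻¹' U) ↔ IsCompact U := by
  classical
  constructor
  · intro h
    refine isCompact_of_finite_subcover fun {ι} V hV hsub => ?_
    obtain ⟨t, ht⟩ := h.elim_finite_subcover (fun i => f ⁻¹' V i) (fun i => (hV i).preimage H.cont)
      (by rw [← preimage_iUnion]; exact preimage_mono hsub)
    refine ⟨t, H.subset_of_preimage (lqc_of_qc (qc_of_isOpen hU))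
      (lqc_of_qc (qc_of_isOpen (isOpen_biUnion fun i _ => hV i))) ?_⟩
    simpa only [preimage_iUnion] using ht
  · intro h
    refine isCompact_of_finite_subcover fun {ι} V hV hsub => ?_
    choose V' hV' hVe using fun i => H.exists_open (hV i)
    obtain ⟨t, ht⟩ := h.elim_finite_subcover V' hV' (H.subset_of_preimage (lqc_of_qc (qc_of_isOpen hU))
      (lqc_of_qc (qc_of_isOpen (isOpen_iUnion hV'))) (by simpa only [preimage_iUnion, hVe] using hsub))
    refine ⟨t, ?_⟩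
    have := preimage_mono (f := f) ht
    simpa only [preimage_iUnion, hVe] using this

theorem QH.isCompact_preimage_iff_lqc {Y' : Set Y} (hY' : LQC Y') : IsCompact (f ⁻¹' Y') ↔ IsCompact Y' := by
  have h := (H.restrictPreimage hY').isCompact_preimage_iff isOpen_univ
  rw [preimage_univ, isCompact_univ_iff, isCompact_univ_iff] at h
  rwa [isCompact_iff_compactSpace, isCompact_iff_compactSpace]

/-- Open subsets correspond. -/
noncomputable def QH.opensIso : Opens Y ≃o Opens X where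
  toEquiv := Equiv.ofBijective (fun U : Opens Y => (⟨f ⁻¹' U, U.2.preimage H.cont⟩ : Opens X))
    ⟨fun U V h => Opens.ext (H.eq_of_preimage (lqc_of_qc (qc_of_isOpen U.2)) (lqc_of_qc (qc_of_isOpen V.2))
        (congrArg SetLike.coe h)),
     fun W => by
      obtain ⟨U, hU, e⟩ := H.exists_open W.2
      exact ⟨⟨U, hU⟩, Opens.ext e⟩⟩
  map_rel_iff' := fun {U V} => ⟨fun h => H.subset_of_preimage (lqc_of_qc (qc_of_isOpen U.2))
    (lqc_of_qc (qc_of_isOpen V.2)) h, fun h => preimage_mono (f := f) (SetLike.coe_subset_coe.2 h)⟩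

theorem QH.noetherianSpace_iff : NoetherianSpace Y ↔ NoetherianSpace X :=
  ⟨fun h => by haveI := h; exact ⟨H.opensIso.symm.strictMono.wellFoundedGT.wf⟩,
   fun h => by haveI := h; exact ⟨H.opensIso.strictMono.wellFoundedGT.wf⟩⟩

theorem QH.isRetrocompact_preimage_iff {U : Set Y} (hU : IsOpen U) : IsRetrocompact (f ⁻¹' U) ↔ IsRetrocompact U := by
  constructor
  · intro h K hK hKo
    rw [← H.isCompact_preimage_iff (hU.inter hKo), preimage_inter]
    exact h ((H.isCompact_preimage_iff hKo).2 hK) (hKo.preimage H.cont)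
  · intro h K hK hKo
    obtain ⟨K', hK', rfl⟩ := H.exists_open hKo
    rw [← preimage_inter, H.isCompact_preimage_iff (hU.inter hK')]
    exact h ((H.isCompact_preimage_iff hK').1 hK) hK'

theorem QH.isConstructible_preimage {Z : Set Y} (hZ : IsConstructible Z) : IsConstructible (f ⁻¹' Z) :=
  hZ.preimage H.cont fun _ hs hs' => (H.isRetrocompact_preimage_iff hs).2 hs'

theorem QH.exists_constructible {W : Set X} (hW : IsConstructible W) : ∃ Z, IsConstructible Z ∧ f ⁻¹' Z = W := by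
  induction hW using IsConstructible.empty_union_induction with
  | open_retrocompact V hV hV' =>
    obtain ⟨U, hU, rfl⟩ := H.exists_open hV
    exact ⟨U, ((H.isRetrocompact_preimage_iff hU).1 hV').isConstructible hU, rfl⟩
  | union s hs t ht hs' ht' =>
    obtain ⟨Z, hZ, rfl⟩ := hs'
    obtain ⟨Z', hZ', rfl⟩ := ht'
    exact ⟨Z ∪ Z', hZ.union hZ', preimage_union⟩
  | compl s hs hs' =>
    obtain ⟨Z, hZ, rfl⟩ := hs'
    exact ⟨Zᶜ, hZ.compl, preimage_compl⟩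

omit H in
theorem qc_of_isConstructible {Z : Set X} (hZ : IsConstructible Z) : QC Z := by
  induction hZ using IsConstructible.empty_union_induction with
  | open_retrocompact U hU _ => exact qc_of_isOpen hU
  | union s hs t ht hs' ht' => exact qc_union hs' ht'
  | compl s hs hs' => exact qc_compl hs'

omit H in
theorem lqc_of_isLocallyConstructible {Z : Set X} (hZ : IsLocallyConstructible Z) : LQC Z :=
  lqc_iff_subspace.2 fun x => by
    obtain ⟨U, hU, hUo, hc⟩ := hZ x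
    exact ⟨U, hUo, mem_of_mem_nhds hU, qc_of_isConstructible hc⟩

theorem QH.isLocallyConstructible_preimage {Z : Set Y} (hZ : IsLocallyConstructible Z) :
    IsLocallyConstructible (f ⁻¹' Z) := fun x => by
  obtain ⟨U, hU, hUo, hc⟩ := hZ (f x)
  exact ⟨f ⁻¹' U, H.cont.continuousAt hU, hUo.preimage H.cont,
    (H.restrictPreimage (lqc_of_qc (qc_of_isOpen hUo))).isConstructible_preimage hc⟩

theorem QH.exists_locallyConstructible {W : Set X} (hW : IsLocallyConstructible W) :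
    ∃ Z, IsLocallyConstructible Z ∧ f ⁻¹' Z = W := by
  obtain ⟨Z, hZ, rfl⟩ := H.exists_lqc (lqc_of_isLocallyConstructible hW)
  refine ⟨Z, fun y => ?_, rfl⟩
  choose V hV hVo hc using hW
  choose U hUo hUe using fun x => H.exists_open (hVo x)
  have hcov : ⋃ x, U x = univ := H.eq_univ (isOpen_iUnion hUo) (eq_univ_of_forall fun x => by
    rw [preimage_iUnion]
    exact mem_iUnion.2 ⟨x, (hUe x).ge (mem_of_mem_nhds (hV x))⟩)
  obtain ⟨x, hx⟩ := mem_iUnion.1 (hcov.ge (mem_univ y))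
  refine ⟨U x, (hUo x).mem_nhds hx, hUo x, ?_⟩
  have hR := H.restrictPreimage (lqc_of_qc (qc_of_isOpen (hUo x)))
  have hc' : IsConstructible ((U x).restrictPreimage f ⁻¹' (Subtype.val ⁻¹' Z)) := by
    have key : ∀ V : Set X, f ⁻¹' U x = V → IsConstructible (Subtype.val ⁻¹' (f ⁻¹' Z) : Set V) →
        IsConstructible ((U x).restrictPreimage f ⁻¹' (Subtype.val ⁻¹' Z)) := by
      rintro _ rfl h
      exact h
    exact key _ (hUe x) (hc x)
  obtain ⟨Z', hZ', hZe⟩ := hR.exists_constructible hc'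
  have hl : LQC (Subtype.val ⁻¹' Z : Set (U x)) :=
    (qh_preimage_lqc continuous_subtype_val hZ : _)
  rwa [← hR.eq_of_preimage (lqc_of_qc (qc_of_isConstructible hZ')) hl hZe]

end QuasiHomLib
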